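import Mathlib
import Groth.Prelude.Def_AffAlg

/-! Direct image algebras of affine morphisms. -/

set_option autoImplicit false
universe u
open CategoryTheory AlgebraicGeometry Opposite

namespace Groth.Agent.AffAlgLib

variable {X Y S : Scheme.{u}} (f : X ⟶ S) (g : Y ⟶ S) (h : Y ⟶ X) (w : h ≫ f = g)

theorem app_surjective_iff (U : S.Opens) :
    Function.Surjective ((AffAlg.algHom f g h w).app (op U)).hom ↔ Function.Surjective (h.app (f ⁻¹ᵁ U)).hom := by
  subst w
  simp [AffAlg.algHom]
  rfl

theorem isIso_app_iff (U : S.Opens) :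
    IsIso ((AffAlg.algHom f g h w).app (op U)) ↔ IsIso (h.app (f ⁻¹ᵁ U)) := by
  subst w
  have he : (AffAlg.algHom f (h ≫ f) h rfl).app (op U) = h.app (f ⁻¹ᵁ U) := by
    simp [AffAlg.algHom]
    rfl
  rw [he]
  exact Iff.rfl

theorem surjective_appTop_restrict (V : X.Opens) :
    Function.Surjective (h ∣_ V).appTop ↔ Function.Surjective (h.app V) := by
  rw [Scheme.Hom.appTop, morphismRestrict_app]
  have e1 : Function.Bijective (Y.presheaf.map (eqToHom (image_morphismRestrict_preimage h V ⊤)).op) :=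
    ConcreteCategory.bijective_of_isIso _
  have hV : V.ι ''ᵁ ⊤ = V := V.ι_image_top
  have e2 : ∀ (V' : X.Opens), V' = V → (Function.Surjective (h.app V') ↔ Function.Surjective (h.app V)) := by
    rintro _ rfl; rfl
  constructor
  · intro hs
    refine (e2 _ hV).mp fun y => ?_
    obtain ⟨x, hx⟩ := hs (Y.presheaf.map (eqToHom (image_morphismRestrict_preimage h V ⊤)).op y)
    exact ⟨x, e1.1 hx⟩
  · intro hs
    exact e1.2.comp ((e2 _ hV).mpr hs)

theorem isIso_appTop_restrict (V : X.Opens) : IsIso (h ∣_ V).appTop ↔ IsIso (h.app V) := by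
  rw [ConcreteCategory.isIso_iff_bijective, ConcreteCategory.isIso_iff_bijective, Scheme.Hom.appTop,
    morphismRestrict_app]
  have e1 : Function.Bijective (Y.presheaf.map (eqToHom (image_morphismRestrict_preimage h V ⊤)).op) :=
    ConcreteCategory.bijective_of_isIso _
  have e2 : ∀ (V' : X.Opens), V' = V → (Function.Bijective (h.app V') ↔ Function.Bijective (h.app V)) := by
    rintro _ rfl; rfl
  exact (e1.of_comp_iff' _).trans (e2 _ V.ι_image_top)

theorem cover [IsAffineHom f] : TopologicalSpace.IsOpenCover (fun U : S.affineOpens => f ⁻¹ᵁ (U : S.Opens)) := by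
  show ⨆ U : S.affineOpens, f ⁻¹ᵁ (U : S.Opens) = ⊤
  rw [← Scheme.Hom.preimage_iSup, iSup_affineOpens_eq_top, Scheme.Hom.preimage_top]

include w in
theorem isAffineHom [IsAffineHom f] [IsAffineHom g] : IsAffineHom h := by
  have : IsAffineHom (h ≫ f) := w ▸ inferInstance
  exact IsAffineHom.of_comp h f

include w in
theorem isClosedImmersion [IsAffineHom f] [IsAffineHom g]
    (hs : ∀ U : S.affineOpens, Function.Surjective ((AffAlg.algHom f g h w).app (op U.1)).hom) :
    IsClosedImmersion h := by
  have := isAffineHom f g h w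
  refine IsZariskiLocalAtTarget.of_iSup_eq_top (P := @IsClosedImmersion) _ (cover f) fun U => ?_
  have : IsAffine (f ⁻¹ᵁ (U : S.Opens) : Scheme.{u}) := U.2.preimage f
  have : IsAffine (h ⁻¹ᵁ (f ⁻¹ᵁ (U : S.Opens)) : Scheme.{u}) := (U.2.preimage f).preimage h
  exact IsClosedImmersion.of_surjective_of_isAffine _
    ((surjective_appTop_restrict h _).mpr ((app_surjective_iff f g h w U.1).mp (hs U)))

theorem isIso_iff [IsAffineHom f] [IsAffineHom g] : IsIso h ↔ IsIso (AffAlg.algHom f g h w) := by
  constructor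
  · intro hi
    have : ∀ U : (TopologicalSpace.Opens S)ᵒᵖ, IsIso ((AffAlg.algHom f g h w).app U) := fun U => by
      induction U using Opposite.rec with
      | op U => exact (isIso_app_iff f g h w U).mpr inferInstance
    exact NatIso.isIso_of_isIso_app _
  · intro hi
    have := isAffineHom f g h w
    refine IsZariskiLocalAtTarget.of_iSup_eq_top (P := MorphismProperty.isomorphisms Scheme.{u}) _ (cover f) fun U => ?_
    have : IsAffine (f ⁻¹ᵁ (U : S.Opens) : Scheme.{u}) := U.2.preimage f
    have : IsAffine (h ⁻¹ᵁ (f ⁻¹ᵁ (U : S.Opens)) : Scheme.{u}) := (U.2.preimage f).preimage h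
    have : IsIso (h ∣_ (f ⁻¹ᵁ (U : S.Opens))).appTop :=
      (isIso_appTop_restrict h _).mpr ((isIso_app_iff f g h w U.1).mp inferInstance)
    rw [MorphismProperty.arrow_mk_iso_iff (MorphismProperty.isomorphisms Scheme.{u})
      (arrowIsoSpecΓOfIsAffine (h ∣_ (f ⁻¹ᵁ (U : S.Opens))))]
    show IsIso _
    infer_instance

end Groth.Agent.AffAlgLib
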